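import Mathlib.RingTheory.Ideal.Norm.RelNorm
import Mathlib.RingTheory.DedekindDomain.IntegralClosure
import Mathlib.RingTheory.DiscreteValuationRing.Basic
import Mathlib.FieldTheory.PurelyInseparable.Basic
import Mathlib.FieldTheory.SeparableClosure
import Mathlib.RingTheory.Polynomial.Eisenstein.Basic
import Mathlib.RingTheory.Polynomial.GaussLemma
import Mathlib.RingTheory.AdjoinRoot
import Mathlib.RingTheory.Localization.Integer
import Mathlib.GroupTheory.Archimedean

/-!
# The index of diagonal hypersurfaces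
-/

set_option autoImplicit false
set_option linter.style.haveILetI false

noncomputable section

universe u

open UniqueFactorizationMonoid

namespace Groth.Agent.H23Index

theorem dvd_arith {d q e δ a b : ℕ} (hδ : δ ≠ 0) (h : d * a = d * b + q * e * δ) : d / Nat.gcd d δ ∣ q * e := by
  have h1 : d ∣ q * e * δ := (Nat.dvd_add_iff_right (dvd_mul_right d b)).2 (h ▸ dvd_mul_right d a)
  have hg : 0 < Nat.gcd d δ := Nat.gcd_pos_of_pos_right _ (Nat.pos_of_ne_zero hδ)
  have h2 : d / Nat.gcd d δ ∣ q * e * (δ / Nat.gcd d δ) := by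
    rw [← Nat.mul_div_assoc _ (Nat.gcd_dvd_right d δ)]
    exact Nat.div_dvd_div (Nat.gcd_dvd_left d δ) h1
  exact (Nat.coprime_div_gcd_div_gcd hg).dvd_of_dvd_mul_right h2

section Dedekind

variable {C : Type u} [CommRing C] [IsDedekindDomain C]

/-- Order at a prime. -/
def ordAt (P : Ideal C) (x : C) : ℕ := by classical exact (normalizedFactors (Ideal.span {x})).count P

theorem mem_pow_iff {P : Ideal C} (hP : Irreducible P) {x : C} (hx : x ≠ 0) (n : ℕ) :
    x ∈ P ^ n ↔ n ≤ ordAt P x := by
  classical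
  have hx' : Ideal.span {x} ≠ (0 : Ideal C) := fun h => hx (Ideal.span_singleton_eq_bot.1 h)
  rw [← Ideal.span_singleton_le_iff_mem, ← Ideal.dvd_iff_le, pow_dvd_iff_le_emultiplicity,
    emultiplicity_eq_count_normalizedFactors hP hx', normalize_eq, Nat.cast_le, ordAt]

theorem ordAt_mul (P : Ideal C) {x y : C} (hx : x ≠ 0) (hy : y ≠ 0) : ordAt P (x * y) = ordAt P x + ordAt P y := by
  classical
  rw [ordAt, ← Ideal.span_singleton_mul_span_singleton,
    normalizedFactors_mul (fun h => hx (Ideal.span_singleton_eq_bot.1 h)) (fun h => hy (Ideal.span_singleton_eq_bot.1 h)),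
    Multiset.count_add, ordAt, ordAt]

theorem ordAt_pow (P : Ideal C) {x : C} (hx : x ≠ 0) (n : ℕ) : ordAt P (x ^ n) = n * ordAt P x := by
  induction n with
  | zero =>
    classical
    rw [pow_zero, Nat.zero_mul, ordAt, Ideal.span_singleton_one, ← Ideal.one_eq_top, normalizedFactors_one,
      Multiset.count_zero]
  | succ n ih => rw [pow_succ, ordAt_mul P (pow_ne_zero _ hx) hx, ih, Nat.succ_mul]

theorem ordAt_neg (P : Ideal C) (x : C) : ordAt P (-x) = ordAt P x := by
  rw [ordAt, ordAt, Ideal.span_singleton_neg]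

theorem exists_eq_ordAt {ι : Type*} [Fintype ι] {P : Ideal C} (hP : Irreducible P) (c : ι → C)
    (hsum : ∑ i, c i = 0) (hne : ∃ i, c i ≠ 0) :
    ∃ i j, i ≠ j ∧ c i ≠ 0 ∧ c j ≠ 0 ∧ ordAt P (c i) = ordAt P (c j) := by
  classical
  obtain ⟨i, hi, hmin⟩ := Finset.exists_min_image (Finset.univ.filter fun i => c i ≠ 0) (fun i => ordAt P (c i))
    (by obtain ⟨i, hi⟩ := hne; exact ⟨i, Finset.mem_filter.2 ⟨Finset.mem_univ _, hi⟩⟩)
  have hi0 := (Finset.mem_filter.1 hi).2
  by_contra hcon
  push Not at hcon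
  have hrest : ∑ j ∈ Finset.univ.erase i, c j ∈ P ^ (ordAt P (c i) + 1) := by
    refine Submodule.sum_mem _ fun j hj => ?_
    by_cases hj0 : c j = 0
    · rw [hj0]; exact zero_mem _
    rw [mem_pow_iff hP hj0]
    exact lt_of_le_of_ne (hmin j (Finset.mem_filter.2 ⟨Finset.mem_univ _, hj0⟩))
      (hcon i j (Finset.ne_of_mem_erase hj).symm hi0 hj0)
  have h1 : c i ∈ P ^ (ordAt P (c i) + 1) := by
    have hs : c i + ∑ j ∈ Finset.univ.erase i, c j = 0 := by
      rw [Finset.add_sum_erase _ _ (Finset.mem_univ i)]; exact hsum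
    have h := (P ^ (ordAt P (c i) + 1)).neg_mem hrest
    rwa [← eq_neg_of_add_eq_zero_left hs] at h
  rw [mem_pow_iff hP hi0] at h1
  omega

variable {R : Type u} [CommRing R] [IsDomain R] [IsDiscreteValuationRing R]
  [Algebra R C] [Module.Finite R C] [Module.IsTorsionFree R C]

/-- Divisibility of all ramification indices gives divisibility of the degree. -/
theorem dvd_finrank {ϖ : R} (hϖ : Irreducible ϖ) (G q : ℕ)
    (h : ∀ P : Ideal C, P ∈ normalizedFactors (Ideal.span {algebraMap R C ϖ}) → G ∣ q * ordAt P (algebraMap R C ϖ)) :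
    G ∣ q * Module.finrank R C := by
  classical
  have hp : IsLocalRing.maximalIdeal R = Ideal.span {ϖ} := hϖ.maximalIdeal_eq
  have hmap : Ideal.span {algebraMap R C ϖ} = (IsLocalRing.maximalIdeal R).map (algebraMap R C) := by
    rw [hp, Ideal.map_span, Set.image_singleton]
  have hϖC : algebraMap R C ϖ ≠ 0 := fun h0 => hϖ.ne_zero (FaithfulSMul.algebraMap_injective R C (by rw [h0, map_zero]))
  have hI : Ideal.span {algebraMap R C ϖ} ≠ (0 : Ideal C) := fun h0 => hϖC (Ideal.span_singleton_eq_bot.1 h0)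
  let M := normalizedFactors (Ideal.span {algebraMap R C ϖ})
  have hs : ∀ P ∈ M, ∃ s, Ideal.relNorm R P = IsLocalRing.maximalIdeal R ^ s := by
    intro P hP
    have hPp : P.IsPrime := Ideal.isPrime_of_prime (prime_of_normalized_factor P hP)
    have hle : IsLocalRing.maximalIdeal R ≤ P.comap (algebraMap R C) := by
      rw [← Ideal.map_le_iff_le_comap, ← hmap]
      exact Ideal.le_of_dvd (dvd_of_mem_normalizedFactors hP)
    haveI : P.LiesOver (IsLocalRing.maximalIdeal R) :=
      ⟨(IsLocalRing.maximalIdeal.isMaximal R).eq_of_le (Ideal.IsPrime.ne_top (Ideal.IsPrime.comap _)) hle⟩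
    exact Ideal.exists_relNorm_eq_pow_of_isPrime P (IsLocalRing.maximalIdeal R)
  choose! s hs using hs
  have h1 : IsLocalRing.maximalIdeal R ^ Module.finrank R C =
      IsLocalRing.maximalIdeal R ^ (∑ P ∈ M.toFinset, s P * M.count P) := by
    rw [← Ideal.relNorm_algebraMap C, ← hmap]
    conv_lhs => rw [← associated_iff_eq.1 (prod_normalizedFactors hI)]
    rw [map_multiset_prod, Finset.prod_multiset_map_count, ← Finset.prod_pow_eq_pow_sum]
    refine Finset.prod_congr rfl fun P hP => ?_
    rw [hs P (Multiset.mem_toFinset.1 hP), ← pow_mul]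
  have h2 : Module.finrank R C = ∑ P ∈ M.toFinset, s P * M.count P := by
    rw [hp, Ideal.span_singleton_pow, Ideal.span_singleton_pow, Ideal.span_singleton_eq_span_singleton] at h1
    have hdvd : ∀ a b : ℕ, Associated (ϖ ^ a) (ϖ ^ b) → a = b := fun a b hab =>
      le_antisymm ((pow_dvd_pow_iff hϖ.ne_zero hϖ.not_isUnit).1 hab.dvd)
        ((pow_dvd_pow_iff hϖ.ne_zero hϖ.not_isUnit).1 hab.symm.dvd)
    exact hdvd _ _ h1
  rw [h2, Finset.mul_sum]
  refine Finset.dvd_sum fun P hP => ?_
  rw [mul_left_comm]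
  exact dvd_mul_of_dvd_right (h P (Multiset.mem_toFinset.1 hP)) _

end Dedekind

/-- The gcd of the quotients. -/
def idx (d N : ℕ) : ℕ := ((Finset.Icc 1 N).filter (fun δ => δ ∣ d)).gcd (fun δ => d / δ)

variable {R : Type u} [CommRing R] [IsDomain R] [IsDiscreteValuationRing R] {K : Type u} [Field K]
  [Algebra R K] [IsFractionRing R K] {d N : ℕ}

theorem idx_dvd_separable {ϖ : R} (hϖ : Irreducible ϖ) (hd : 1 ≤ d) (q : ℕ) (M : Type u) [Field M] [Algebra K M]
    [FiniteDimensional K M] [Algebra.IsSeparable K M] (y : Fin (N + 1) → M) (hy : y ≠ 0)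
    (he : y 0 ^ d = ∑ i : Fin N, algebraMap K M (algebraMap R K (ϖ ^ (q * ((i : ℕ) + 1)))) * y i.succ ^ d) :
    idx d N ∣ q * Module.finrank K M := by
  classical
  letI : Algebra R M := ((algebraMap K M).comp (algebraMap R K)).toAlgebra
  haveI : IsScalarTower R K M := IsScalarTower.of_algebraMap_eq fun r => rfl
  haveI : IsIntegralClosure (integralClosure R M) R M := integralClosure.isIntegralClosure R M
  haveI : IsDedekindDomain (integralClosure R M) := integralClosure.isDedekindDomain R K M
  haveI : Module.Finite R (integralClosure R M) := IsIntegralClosure.finite R K M (integralClosure R M)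
  haveI : IsFractionRing (integralClosure R M) M :=
    IsIntegralClosure.isFractionRing_of_finite_extension R K M (integralClosure R M)
  have hRM : Function.Injective (algebraMap R M) := (algebraMap K M).injective.comp (IsFractionRing.injective R K)
  haveI : FaithfulSMul R (integralClosure R M) := (faithfulSMul_iff_algebraMap_injective _ _).2 fun a b h =>
    hRM (congrArg (fun z : integralClosure R M => (z : M)) h)
  haveI : Module.IsTorsionFree R (integralClosure R M) := inferInstance
  obtain ⟨b, hb⟩ := IsLocalization.exist_integer_multiples_of_finite (nonZeroDivisors (integralClosure R M)) y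
  choose z hz using hb
  have hz' : ∀ i, (z i : M) = ((b : integralClosure R M) : M) * y i := fun i => (hz i).trans (Algebra.smul_def _ _)
  have hb0 : ((b : integralClosure R M) : M) ≠ 0 := fun h =>
    nonZeroDivisors.ne_zero b.2 (Subtype.ext h)
  let pC : integralClosure R M := algebraMap R (integralClosure R M) ϖ
  have hpC : pC ≠ 0 := fun h => hϖ.ne_zero (FaithfulSMul.algebraMap_injective R _ (h.trans (map_zero _).symm))
  have hpM : (pC : M) = algebraMap K M (algebraMap R K ϖ) := rfl
  let c : Fin (N + 1) → integralClosure R M :=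
    Fin.cons (-(z 0 ^ d)) fun i => pC ^ (q * ((i : ℕ) + 1)) * z i.succ ^ d
  have hsum : ∑ j, c j = 0 := by
    refine Subtype.ext ?_
    rw [Fin.sum_univ_succ]
    simp only [c, Fin.cons_zero, Fin.cons_succ, Subalgebra.coe_add, Subalgebra.coe_neg, Subalgebra.coe_pow,
      Subalgebra.coe_zero, AddSubmonoidClass.coe_finsetSum, Subalgebra.coe_mul, hz', hpM, ← map_pow, mul_pow]
    rw [he, Finset.mul_sum, neg_add_eq_zero]
    exact Finset.sum_congr rfl fun i _ => by ring
  obtain ⟨j₀, hj₀⟩ := Function.ne_iff.1 hy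
  have hzne : ∀ j, c j ≠ 0 ↔ z j ≠ 0 := by
    refine Fin.cases ?_ fun i => ?_
    · simp [c, pow_eq_zero_iff (show d ≠ 0 by omega)]
    · simp [c, pow_eq_zero_iff (show d ≠ 0 by omega), hpC]
  have hne : ∃ j, c j ≠ 0 := ⟨j₀, (hzne j₀).2 fun h => hj₀ (by
    have := hz' j₀
    rw [h] at this
    simpa [hb0] using this.symm)⟩
  rw [IsFractionRing.finrank_eq R K (integralClosure R M) M]
  refine dvd_finrank hϖ _ _ fun P hP => ?_
  have hPi := irreducible_of_normalized_factor P hP
  obtain ⟨i, j, hij, hi, hj, heq⟩ := exists_eq_ordAt hPi c hsum hne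
  have hord : ∀ j, c j ≠ 0 → ordAt P (c j) = d * ordAt P (z j) + q * ordAt P pC * (j : ℕ) := by
    refine Fin.cases (fun h => ?_) fun i h => ?_
    · simp only [c, Fin.cons_zero, ordAt_neg, Fin.val_zero, mul_zero, add_zero]
      exact ordAt_pow P ((hzne 0).1 h) d
    · simp only [c, Fin.cons_succ, Fin.val_succ]
      rw [ordAt_mul P (pow_ne_zero _ hpC) (pow_ne_zero _ ((hzne _).1 h)), ordAt_pow P hpC,
        ordAt_pow P ((hzne _).1 h)]
      ring
  rw [hord i hi, hord j hj] at heq
  clear hi hj
  wlog hlt : (i : ℕ) < (j : ℕ) generalizing i j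
  · exact this j i hij.symm heq.symm (lt_of_le_of_ne (not_lt.1 hlt) fun h => hij (Fin.ext h.symm))
  obtain ⟨δ, hδ⟩ := Nat.exists_eq_add_of_lt hlt
  have h2 : d * ordAt P (z i) = d * ordAt P (z j) + q * ordAt P pC * (δ + 1) := by
    rw [hδ] at heq
    have : d * ordAt P (z i) + q * ordAt P pC * (i : ℕ) =
        d * ordAt P (z j) + q * ordAt P pC * (δ + 1) + q * ordAt P pC * (i : ℕ) := by rw [heq]; ring
    omega
  refine ((Finset.gcd_dvd (f := fun δ => d / δ) (Finset.mem_filter.2 ⟨Finset.mem_Icc.2 ⟨?_, ?_⟩, Nat.gcd_dvd_left d (δ + 1)⟩)) : idx d N ∣ _).trans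
    (dvd_arith (Nat.succ_ne_zero δ) h2)
  · exact Nat.gcd_pos_of_pos_right _ (Nat.succ_pos _)
  · exact (Nat.gcd_le_right _ (Nat.succ_pos _)).trans (by have := j.2; omega)

theorem idx_dvd {ϖ : R} (hϖ : Irreducible ϖ) (hd : 1 ≤ d) (L : Type u) [Field L] [Algebra K L] [FiniteDimensional K L]
    (x : Fin (N + 1) → L) (hx : x ≠ 0)
    (he : x 0 ^ d = ∑ i : Fin N, algebraMap K L (algebraMap R K (ϖ ^ ((i : ℕ) + 1))) * x i.succ ^ d) :
    idx d N ∣ Module.finrank K L := by
  obtain ⟨p, hp⟩ := ExpChar.exists K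
  haveI : ExpChar L p := expChar_of_injective_algebraMap (algebraMap K L).injective p
  haveI : ExpChar (separableClosure K L) p :=
    expChar_of_injective_algebraMap (algebraMap K (separableClosure K L)).injective p
  obtain ⟨m, hm⟩ := IsPurelyInseparable.finrank_eq_pow L p (F := separableClosure K L)
  have hmem : ∀ z : L, z ^ p ^ m ∈ (algebraMap (separableClosure K L) L).range := by
    intro z
    obtain ⟨j, hj⟩ := IsPurelyInseparable.minpoly_eq_X_sub_C_pow (separableClosure K L) p (E := L) z
    have hdd := minpoly.degree_dvd (K := separableClosure K L) (IsIntegral.of_finite _ z)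
    have hdeg := congrArg Polynomial.natDegree hj
    rw [Polynomial.natDegree_map, Polynomial.natDegree_pow, Polynomial.natDegree_X_sub_C, mul_one] at hdeg
    rw [hdeg, hm] at hdd
    have h1 : z ^ p ^ j ∈ (algebraMap (separableClosure K L) L).range := by
      refine ⟨-(minpoly (separableClosure K L) z).coeff 0, ?_⟩
      rw [map_neg, ← Polynomial.coeff_map, hj, sub_pow_expChar_pow, ← map_pow]
      simp [Polynomial.coeff_X_pow, (pow_ne_zero j (expChar_pos L p).ne').symm]
      rw [← map_pow, Polynomial.coeff_C_zero]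
    obtain ⟨r, hr⟩ := hdd
    rw [hr, pow_mul]
    exact Subring.pow_mem _ h1 r
  choose y hy using fun i => hmem (x i)
  have hy0 : y ≠ 0 := fun h => hx (funext fun i => by
    have := hy i
    rw [h, Pi.zero_apply, map_zero] at this
    exact (pow_eq_zero_iff'.1 this.symm).1)
  have he' : y 0 ^ d = ∑ i : Fin N,
      algebraMap K (separableClosure K L) (algebraMap R K (ϖ ^ (p ^ m * ((i : ℕ) + 1)))) * y i.succ ^ d := by
    refine (algebraMap (separableClosure K L) L).injective ?_
    rw [map_pow, hy, ← pow_mul, mul_comm, pow_mul, he, sum_pow_char_pow, map_sum]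
    refine Finset.sum_congr rfl fun i _ => ?_
    rw [map_mul, map_pow _ (y i.succ), hy, ← IsScalarTower.algebraMap_apply K (separableClosure K L) L, mul_pow, mul_comm (p ^ m) ((i : ℕ) + 1), pow_mul ϖ,
      ← pow_mul (x i.succ), ← pow_mul (x i.succ), mul_comm d]
    simp only [map_pow]
  have h := idx_dvd_separable hϖ hd (p ^ m) (separableClosure K L) y hy0 he'
  rw [← hm, mul_comm, Module.finrank_mul_finrank K (separableClosure K L) L] at h
  exact h

/-- The index. -/
theorem closure_degrees {ϖ : R} (hϖ : Irreducible ϖ) (hd : 1 ≤ d) :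
    AddSubgroup.closure {m : ℤ | ∃ (L : Type u) (_ : Field L) (_ : Algebra K L),
        FiniteDimensional K L ∧ m = (Module.finrank K L : ℤ) ∧
        ∃ x : Fin (N + 1) → L, x ≠ 0 ∧
          x 0 ^ d = ∑ i : Fin N, algebraMap K L (algebraMap R K (ϖ ^ ((i : ℕ) + 1))) * x i.succ ^ d} =
      AddSubgroup.zmultiples ((idx d N : ℕ) : ℤ) := by
  classical
  refine le_antisymm ((AddSubgroup.closure_le _).2 ?_) ?_
  · rintro _ ⟨L, _, _, hL, rfl, x, hx, he⟩
    exact Int.mem_zmultiples_iff.2 (Int.natCast_dvd_natCast.2 (idx_dvd hϖ hd L x hx he))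
  · rw [AddSubgroup.zmultiples_le]
    obtain ⟨a, ha⟩ := Int.subgroup_cyclic (AddSubgroup.closure {m : ℤ | ∃ (L : Type u) (_ : Field L) (_ : Algebra K L),
        FiniteDimensional K L ∧ m = (Module.finrank K L : ℤ) ∧
        ∃ x : Fin (N + 1) → L, x ≠ 0 ∧
          x 0 ^ d = ∑ i : Fin N, algebraMap K L (algebraMap R K (ϖ ^ ((i : ℕ) + 1))) * x i.succ ^ d})
    rw [← AddSubgroup.zmultiples_eq_closure] at ha
    rw [ha, Int.mem_zmultiples_iff, ← Int.natAbs_dvd, Int.natCast_dvd_natCast]
    refine Finset.dvd_gcd fun δ hδ => ?_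
    obtain ⟨hδ', m, hm⟩ := Finset.mem_filter.1 hδ
    obtain ⟨hδ1, hδN⟩ := Finset.mem_Icc.1 hδ'
    have hm0 : m ≠ 0 := fun h => by rw [h, mul_zero] at hm; omega
    have hdiv : d / δ = m := by rw [hm]; exact Nat.mul_div_cancel_left m (by omega)
    rw [hdiv, ← Int.natCast_dvd_natCast, Int.natAbs_dvd, ← Int.mem_zmultiples_iff, ← ha]
    refine AddSubgroup.subset_closure ?_
    let f : Polynomial R := Polynomial.X ^ m - Polynomial.C ϖ
    have hfm : f.Monic := Polynomial.monic_X_pow_sub_C ϖ hm0
    have hfd : f.natDegree = m := Polynomial.natDegree_X_pow_sub_C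
    have hprime : (Ideal.span {ϖ}).IsPrime := (Ideal.span_singleton_prime hϖ.ne_zero).2 hϖ.prime
    have hE : f.IsEisensteinAt (Ideal.span {ϖ}) := by
      refine ⟨?_, fun {i} hi => ?_, ?_⟩
      · rw [hfm.leadingCoeff]; exact fun h => hprime.ne_top ((Ideal.eq_top_iff_one _).2 h)
      · rw [hfd] at hi
        simp only [f, Polynomial.coeff_sub, Polynomial.coeff_X_pow, Polynomial.coeff_C, if_neg hi.ne]
        split
        · rw [zero_sub]; exact neg_mem (Ideal.mem_span_singleton_self ϖ)
        · rw [sub_zero]; exact zero_mem _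
      · simp only [f, Polynomial.coeff_sub, Polynomial.coeff_X_pow, Polynomial.coeff_C, if_neg (Ne.symm hm0), if_true,
          zero_sub, neg_mem_iff, Ideal.span_singleton_pow, Ideal.mem_span_singleton]
        intro h
        exact hϖ.not_isUnit (isUnit_of_dvd_one ((mul_dvd_mul_iff_left hϖ.ne_zero).1 (by rwa [mul_one, ← sq])))
    have hirr := (hfm.irreducible_iff_irreducible_map_fraction_map (K := K)).1
      (hE.irreducible hprime hfm.isPrimitive (by omega))
    haveI := Fact.mk hirr
    have hfk0 : f.map (algebraMap R K) ≠ 0 := hirr.ne_zero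
    haveI : FiniteDimensional K (AdjoinRoot (f.map (algebraMap R K))) := (AdjoinRoot.powerBasis hfk0).finite
    refine ⟨AdjoinRoot (f.map (algebraMap R K)), inferInstance, inferInstance, inferInstance, ?_, ?_⟩
    · rw [(AdjoinRoot.powerBasis hfk0).finrank, AdjoinRoot.powerBasis_dim, hfm.natDegree_map, hfd]
    let j : Fin (N + 1) := ⟨δ, by omega⟩
    have hroot : AdjoinRoot.root (f.map (algebraMap R K)) ^ m =
        algebraMap K (AdjoinRoot (f.map (algebraMap R K))) (algebraMap R K ϖ) := by
      have h := AdjoinRoot.eval₂_root (f.map (algebraMap R K))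
      simp only [f, Polynomial.map_sub, Polynomial.map_pow, Polynomial.map_X, Polynomial.map_C, Polynomial.eval₂_sub,
        Polynomial.eval₂_pow, Polynomial.eval₂_X, Polynomial.eval₂_C, sub_eq_zero] at h
      exact h
    refine ⟨fun i => if i = 0 then AdjoinRoot.root (f.map (algebraMap R K)) else if i = j then 1 else 0,
      fun h => one_ne_zero (?_ : (1 : AdjoinRoot (f.map (algebraMap R K))) = 0), ?_⟩
    · have h' := congrFun h j
      simpa [j, Fin.ext_iff, show δ ≠ 0 by omega] using h'
    beta_reduce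
    rw [if_pos rfl, Finset.sum_eq_single (⟨δ - 1, by omega⟩ : Fin N)]
    · have hj : (⟨δ - 1, by omega⟩ : Fin N).succ = j := Fin.ext (by simp [j]; omega)
      rw [if_neg (Fin.succ_ne_zero _), if_pos hj, one_pow, mul_one, show δ - 1 + 1 = δ by omega, hm, mul_comm δ m,
        pow_mul, hroot, map_pow, map_pow]
    · intro i _ hi
      rw [if_neg (Fin.succ_ne_zero _), if_neg (fun h => hi (Fin.ext (by
        have := congrArg Fin.val h; simp [j] at this; simp; omega))), zero_pow (by omega), mul_zero]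
    · exact fun h => absurd (Finset.mem_univ _) h

end Groth.Agent.H23Index
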